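import Groth.Agent.RegImm38.Seq
import Groth.Agent.RegImm44.Affine
import Mathlib.AlgebraicGeometry.Morphisms.Flat

/-!
# Base change of regular immersions of the four kinds
-/

set_option linter.style.haveILetI false

universe u

open AlgebraicGeometry CategoryTheory Limits MorphismProperty

namespace Groth.Agent.RegImm38

variable {Z X S S' : Scheme.{u}}

theorem ofList_ne_top {Y : Scheme.{u}} (i : Z ⟶ Y) {U : Y.Opens} (hU : IsAffineOpen U) (z : Z)
    (hz : i z ∈ U) {rs : List Γ(Y, U)} (hker : RingHom.ker (i.app U).hom = Ideal.ofList rs) :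
    Ideal.ofList rs ≠ ⊤ := fun h =>
  (hU.primeIdealOf ⟨i z, hz⟩).isPrime.ne_top
    (top_le_iff.mp (h ▸ hker ▸ RegImm44.ker_le_primeIdealOf i hU z hz))

/-- Regular immersions of every kind are stable under flat base change. -/
theorem isRegularImmersionAt_flat {X' Z' : Scheme.{u}} {i : Z ⟶ X} {i' : Z' ⟶ X'} {g : X' ⟶ X} {g' : Z' ⟶ Z}
    (hsq : IsPullback g' i' i g) [Flat g] (k : RegImm.Kind) {z' : Z'}
    (h : RegImm.IsRegularImmersionAt k i (g' z')) : RegImm.IsRegularImmersionAt k i' z' := by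
  obtain ⟨⟨U, hU⟩, hz, hci, rs, hrs, hker⟩ := h
  haveI := hci
  have hmem : i' z' ∈ g ⁻¹ᵁ U := by
    change g (i' z') ∈ U
    rw [← Scheme.Hom.comp_apply, ← hsq.w, Scheme.Hom.comp_apply]
    exact hz
  obtain ⟨U', hU', hz', hle⟩ := exists_isAffineOpen_mem_and_subset hmem
  haveI := RegImm44.isClosedImmersion_restrict hsq hle
  have hk : RingHom.ker (i'.app U').hom = Ideal.ofList (rs.map (g.appLE U U' hle).hom) := by
    rw [RegImm44.ker_app_baseChange hsq hU hU' hle, hker, Ideal.map_ofList]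
  exact ⟨⟨U', hU'⟩, hz', inferInstance, _,
    seq_map_flat k _ (g.flat_appLE hU hU' hle) hrs (ofList_ne_top i' hU' z' hz' hk), hk⟩

theorem isRegularImmersionAt_of_isPullback {X' Z' : Scheme.{u}} {f : X ⟶ S} {g : S' ⟶ S} {i : Z ⟶ X}
    [Flat (i ≫ f)] {gX : X' ⟶ X} {fS : X' ⟶ S'} {i' : Z' ⟶ X'} {g' : Z' ⟶ Z}
    (hX : IsPullback gX fS f g) (hsq : IsPullback g' i' i gX) (k : RegImm.Kind)
    (hk : k = .h1 ∨ k = .quasi) (z' : Z') (hat : RegImm.IsRegularImmersionAt k i (g' z')) :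
    RegImm.IsRegularImmersionAt k i' z' := by
  obtain ⟨⟨U, hU⟩, hz, hci, rs, hrs, hker⟩ := hat
  haveI := hci
  obtain ⟨V, hV, hzV, -⟩ := exists_isAffineOpen_mem_and_subset (show f (i (g' z')) ∈ (⊤ : S.Opens) from trivial)
  obtain ⟨U₁, hU₁, hz₁, hle₁⟩ := exists_isAffineOpen_mem_and_subset (show i (g' z') ∈ U ⊓ f ⁻¹ᵁ V from ⟨hz, hzV⟩)
  have hUU : U₁ ≤ U := le_trans (show U₁ ≤ U ⊓ f ⁻¹ᵁ V from hle₁) inf_le_left
  have hUV : U₁ ≤ f ⁻¹ᵁ V := le_trans (show U₁ ≤ U ⊓ f ⁻¹ᵁ V from hle₁) inf_le_right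
  haveI := RegImm44.isClosedImmersion_restrict_of_le i hUU
  set ρ := (X.presheaf.map (homOfLE hUU).op).hom
  have hρ : ρ.Flat := by
    have := (𝟙 X : X ⟶ X).flat_appLE hU hU₁ (show U₁ ≤ (𝟙 X : X ⟶ X) ⁻¹ᵁ U from hUU)
    rwa [show (𝟙 X : X ⟶ X).appLE U U₁ hUU = X.presheaf.map (homOfLE hUU).op from by
      simp [Scheme.Hom.appLE]; exact Category.id_comp _] at this
  have hker₁ : RingHom.ker (i.app U₁).hom = Ideal.ofList (rs.map ρ) := by
    rw [RegImm44.ker_app_restrict i hU hU₁ hUU, hker, Ideal.map_ofList]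
  have hrs₁ := seq_map_flat k ρ hρ hrs (ofList_ne_top i hU₁ (g' z') hz₁ hker₁)
  have hw : gX (i' z') = i (g' z') := by
    rw [← Scheme.Hom.comp_apply, ← hsq.w, Scheme.Hom.comp_apply]
  obtain ⟨V', hV', hzV', hle'⟩ := exists_isAffineOpen_mem_and_subset (show fS (i' z') ∈ g ⁻¹ᵁ V by
    change g (fS (i' z')) ∈ V
    rw [← Scheme.Hom.comp_apply, ← hX.w, Scheme.Hom.comp_apply, hw]
    exact hzV)
  set U' := gX ⁻¹ᵁ U₁ ⊓ fS ⁻¹ᵁ V'
  haveI : IsAffine _ := hV
  haveI : IsAffine _ := hV'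
  haveI : IsAffine _ := hU₁
  have hU' : IsAffineOpen U' :=
    .of_isIso (Scheme.Hom.isPullback_resLE hX hle' hUV (UY := U') rfl).isoPullback.hom
  have hz' : i' z' ∈ U' := ⟨by change gX (i' z') ∈ U₁; rw [hw]; exact hz₁, hzV'⟩
  have hpo := (isIso_pushoutSection_iff hX hle' hUV (UY := U') rfl).mp
    (isIso_pushoutSection_of_isAffineOpen hX hle' hUV rfl hV hV' hU₁)
  haveI := RegImm44.isClosedImmersion_restrict hsq (inf_le_left : U' ≤ gX ⁻¹ᵁ U₁)
  have hk' : RingHom.ker (i'.app U').hom =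
      Ideal.ofList ((rs.map ρ).map (gX.appLE U₁ U' inf_le_left).hom) := by
    rw [RegImm44.ker_app_baseChange hsq hU₁ hU' inf_le_left, hker₁, Ideal.map_ofList]
  refine ⟨⟨U', hU'⟩, hz', inferInstance, _, seq_pushout hk hpo hrs₁ ?_, hk'⟩
  have hY : i ⁻¹ᵁ U₁ ≤ (i ≫ f) ⁻¹ᵁ V := fun y hy => hUV hy
  have h1 := (i ≫ f).flat_appLE hV (RegImm44.isAffineOpen_preimage i hU₁) hY
  let e := (Ideal.quotEquivOfEq hker₁.symm).trans
    (RingHom.quotientKerEquivOfSurjective (RegImm44.app_surjective i hU₁))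
  have he : ((Ideal.Quotient.mk (Ideal.ofList (rs.map ρ))).comp (f.appLE V U₁ hUV).hom) =
      e.symm.toRingHom.comp ((i ≫ f).appLE V (i ⁻¹ᵁ U₁) hY).hom := by
    refine RingHom.ext fun v => e.injective ?_
    rw [RingHom.comp_apply, RingHom.comp_apply]
    refine Eq.trans ?_ (e.apply_symm_apply _).symm
    change (i.app U₁).hom ((f.appLE V U₁ hUV).hom v) = _
    rw [Scheme.Hom.app_eq_appLE, ← CommRingCat.comp_apply, Scheme.Hom.appLE_comp_appLE]
  rw [he]
  exact h1.comp (RingHom.Flat.of_bijective e.symm.bijective)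

theorem isRelRegularImmersion_baseChange (f : X ⟶ S) (i : Z ⟶ X) (k : RegImm.Kind)
    (hk : k = .h1 ∨ k = .quasi) (hi : RegImm.IsRelRegularImmersion k f i) (g : S' ⟶ S) :
    RegImm.IsRelRegularImmersion k (pullback.snd f g) (pullback.snd i (pullback.fst f g)) := by
  obtain ⟨⟨himm, hat⟩, hfl⟩ := hi
  haveI := himm
  haveI := hfl
  exact ⟨⟨inferInstance, fun z' => isRegularImmersionAt_of_isPullback (IsPullback.of_hasPullback f g)
      (IsPullback.of_hasPullback i (pullback.fst f g)) k hk z' (hat _)⟩,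
    MorphismProperty.of_isPullback
      ((IsPullback.of_hasPullback i (pullback.fst f g)).paste_vert (IsPullback.of_hasPullback f g)) hfl⟩

end Groth.Agent.RegImm38
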