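import Groth.Agent.CAlg48.QRBase
import Groth.Agent.KReg44.Ideal
import Groth.Agent.RegLoc.H1Seq
import Groth.Prelude.Def_RegImm
import Mathlib.Algebra.Category.Ring.Constructions
import Mathlib.RingTheory.Regular.Flat

/-!
# Regular sequences of the four kinds under base change
-/

set_option linter.style.haveILetI false

universe u

open TensorProduct Function CategoryTheory

namespace Groth.Agent.RegImm38

variable {B : Type u} [CommRing B] {c : ℕ} (f : Fin c → B)

/-- The map with the trivial relations as image. -/
noncomputable def relMap : (Fin c × Fin c → B) →ₗ[B] (Fin c → B) :=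
  Fintype.linearCombination B fun p => Pi.single p.1 (f p.2) - Pi.single p.2 (f p.1)

theorem range_relMap : LinearMap.range (relMap f) =
    Submodule.span B {v : Fin c → B | ∃ i j : Fin c, v = Pi.single i (f j) - Pi.single j (f i)} := by
  rw [relMap, Fintype.range_linearCombination]
  congr 1
  ext v
  simp [eq_comm]

/-- `a ↦ Σ aᵢ fᵢ`, with values in the ideal. -/
noncomputable def dotMap : (Fin c → B) →ₗ[B] Ideal.span (Set.range f) :=
  (Fintype.linearCombination B f).codRestrict (Ideal.span (Set.range f)) fun a => by
    rw [← Ideal.submodule_span_eq, ← Fintype.range_linearCombination]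
    exact LinearMap.mem_range_self _ a

theorem dotMap_apply (a : Fin c → B) : (dotMap f a : B) = ∑ i, a i * f i := by
  simp [dotMap, Fintype.linearCombination_apply]

theorem dotMap_surjective : Surjective (dotMap f) := by
  rintro ⟨x, hx⟩
  rw [← Ideal.submodule_span_eq, ← Fintype.range_linearCombination] at hx
  obtain ⟨a, rfl⟩ := hx
  exact ⟨a, rfl⟩

theorem exact_relMap (hf : CAlgX.IsH1Regular f) : Exact (relMap f) (dotMap f) := by
  intro a
  constructor
  · intro ha
    change a ∈ LinearMap.range (relMap f)
    rw [range_relMap]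
    refine hf a ?_
    rw [← dotMap_apply, ha]
    rfl
  · intro ha
    replace ha : a ∈ LinearMap.range (relMap f) := ha
    rw [range_relMap] at ha
    refine Subtype.ext ?_
    rw [dotMap_apply]
    change _ = (0 : B)
    induction ha using Submodule.span_induction with
    | mem v hv =>
      obtain ⟨i, j, rfl⟩ := hv
      simp [sub_mul, Finset.sum_sub_distrib, Pi.single_apply, mul_comm (f i)]
    | zero => simp
    | add x y _ _ hx hy => simp [add_mul, Finset.sum_add_distrib, hx, hy]
    | smul r x _ hx => simp [mul_assoc, ← Finset.mul_sum, hx]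

variable (A : Type u) [CommRing A] [Algebra A B] (A' : Type u) [CommRing A'] [Algebra A A']

/-- Base change of an `H₁`-regular sequence, when its ideal stays inside the ring. -/
theorem isH1Regular_tensor (hf : CAlgX.IsH1Regular f)
    (hinj : Injective ((((Ideal.span (Set.range f)).subtype).restrictScalars A).lTensor A')) :
    CAlgX.IsH1Regular (fun i => ((1 : A') ⊗ₜ[A] f i : A' ⊗[A] B)) := by
  classical
  intro a ha
  let R' := A' ⊗[A] B
  let f' : Fin c → R' := fun i => 1 ⊗ₜ[A] f i
  have hpi : ∀ (x : A') (v : Fin c → B),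
      TensorProduct.piRight A A A' (fun _ : Fin c => B) (x ⊗ₜ[A] v) = fun i => x ⊗ₜ[A] v i := fun x v => by
    ext i
    simp
  obtain ⟨z, hz⟩ : ∃ z, TensorProduct.piRight A A A' (fun _ : Fin c => B) z = a :=
    (TensorProduct.piRight A A A' (fun _ : Fin c => B)).surjective a
  have hz0 : ((dotMap f).restrictScalars A).lTensor A' z = 0 := by
    apply hinj
    rw [map_zero, ← ha, ← hz]
    clear hz ha
    induction z with
    | zero => simp
    | tmul x v =>
      simp only [LinearMap.lTensor_tmul, LinearMap.coe_restrictScalars, Submodule.subtype_apply,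
        dotMap_apply, hpi, Algebra.TensorProduct.tmul_mul_tmul, mul_one, tmul_sum]
    | add x y hx hy => simp only [map_add, hx, hy, Pi.add_apply, add_mul, Finset.sum_add_distrib]
  have hex := lTensor_exact A' (f := (relMap f).restrictScalars A) (g := (dotMap f).restrictScalars A)
    (exact_relMap f hf) (dotMap_surjective f)
  obtain ⟨w, rfl⟩ := (hex z).mp hz0
  rw [← hz]
  clear hz hz0 ha
  induction w with
  | zero => simp
  | tmul x v =>
    rw [LinearMap.lTensor_tmul, LinearMap.coe_restrictScalars, hpi]
    have e : (fun i => (x ⊗ₜ[A] relMap f v i : R')) =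
        ∑ p : Fin c × Fin c, (x ⊗ₜ[A] v p : R') • (Pi.single p.1 (f' p.2) - Pi.single p.2 (f' p.1) : Fin c → R') := by
      ext i
      simp only [relMap, Fintype.linearCombination_apply, Finset.sum_apply, Pi.smul_apply, Pi.sub_apply,
        tmul_sum, smul_eq_mul]
      refine Finset.sum_congr rfl fun p _ => ?_
      rw [mul_sub, tmul_sub, mul_sub]
      have key : ∀ b b' : B, (x ⊗ₜ[A] (b * b') : R') = (x ⊗ₜ[A] b : R') * ((1 : A') ⊗ₜ[A] b' : R') := fun b b' =>
        ((Algebra.TensorProduct.tmul_mul_tmul x 1 b b').trans (by rw [mul_one])).symm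
      congr 1 <;> simp only [Pi.single_apply] <;> split_ifs
      all_goals first
        | exact key _ _
        | rw [mul_zero, mul_zero, tmul_zero]
    rw [e]
    exact Submodule.sum_mem _ fun p _ => Submodule.smul_mem _ _ (Submodule.subset_span ⟨p.1, p.2, rfl⟩)
  | add x y hx hy =>
    rw [map_add, map_add]
    exact Submodule.add_mem _ hx hy

theorem isH1Regular_baseChange (hf : CAlgX.IsH1Regular f)
    [Module.Flat A (B ⧸ Ideal.span (Set.range f))] :
    CAlgX.IsH1Regular (fun i => ((1 : A') ⊗ₜ[A] f i : A' ⊗[A] B)) := by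
  refine isH1Regular_tensor f A A' hf ?_
  let J := Ideal.span (Set.range f)
  let b : B →ₗ[A] B ⧸ J := (Submodule.mkQ J).restrictScalars A
  have hab : Exact ((Submodule.subtype J).restrictScalars A) b := LinearMap.exact_subtype_mkQ J
  exact LocFlat.lTensor_injective_of_flat_coker _ b hab (Submodule.mkQ_surjective J) Subtype.val_injective A'

variable {f}

theorem isH1Regular_of_ringEquiv {C : Type u} [CommRing C] (e : B ≃+* C)
    (hf : CAlgX.IsH1Regular f) : CAlgX.IsH1Regular (fun i => e (f i)) := by
  intro a ha
  have h := hf (fun i => e.symm (a i)) (by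
    have := congrArg e.symm ha
    simpa [map_sum, map_mul] using this)
  let L : (Fin c → B) →ₛₗ[(e : B →+* C)] (Fin c → C) :=
    { toFun := fun v i => e (v i), map_add' := fun x y => by ext; simp, map_smul' := fun r x => by ext; simp }
  have h2 := Submodule.mem_map_of_mem (f := L) h
  rw [show L (fun i => e.symm (a i)) = a from funext fun i => e.apply_symm_apply _] at h2
  haveI : RingHomSurjective (e : B →+* C) := ⟨e.surjective⟩
  rw [Submodule.map_span] at h2
  refine Submodule.span_mono ?_ h2
  rintro _ ⟨_, ⟨i, j, rfl⟩, rfl⟩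
  refine ⟨i, j, funext fun k => ?_⟩
  simp only [L, LinearMap.coe_mk, AddHom.coe_mk, Pi.sub_apply, map_sub, Pi.single_apply]
  congr 1 <;> split_ifs <;> first | rfl | exact map_zero e

theorem isH1Regular_of_flat {C : Type u} [CommRing C] [Algebra B C] [Module.Flat B C]
    (hf : CAlgX.IsH1Regular f) : CAlgX.IsH1Regular (fun i => algebraMap B C (f i)) := by
  have h := isH1Regular_tensor f B C hf
    (Module.Flat.lTensor_preserves_injective_linearMap _ Subtype.val_injective)
  have h2 := isH1Regular_of_ringEquiv (Algebra.TensorProduct.rid B B C).toRingEquiv h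
  convert h2 using 2 with i
  simp [Algebra.TensorProduct.rid_tmul, Algebra.smul_def]

theorem congr_cast {R : Type u} (P : ∀ {n : ℕ}, (Fin n → R) → Prop) {n m : ℕ} (h : m = n)
    {g : Fin m → R} {g' : Fin n → R} (e : ∀ i, g i = g' (Fin.cast h i)) (hg : P g) : P g' := by
  subst h
  rwa [show g' = g from funext fun i => (e i).symm]

theorem get_map {R S : Type u} (φ : R → S) (rs : List R) (i : Fin rs.length) :
    φ (rs.get i) = (rs.map φ).get (Fin.cast (List.length_map φ).symm i) := by simp

/-- Kind `h1` and `quasi` along a flat base change of the coefficient ring. -/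
theorem seq_pushout {k : RegImm.Kind} (hk : k = .h1 ∨ k = .quasi) {A B A' B' : CommRingCat.{u}}
    {φ : A ⟶ B} {ψ : A ⟶ A'} {inl : B ⟶ B'} {inr : A' ⟶ B'} (h : IsPushout φ ψ inl inr)
    {rs : List B} (hrs : k.Seq B rs) (hflat : ((Ideal.Quotient.mk (Ideal.ofList rs)).comp φ.hom).Flat) :
    k.Seq B' (rs.map inl.hom) := by
  letI : Algebra A B := φ.hom.toAlgebra
  letI : Algebra A A' := ψ.hom.toAlgebra
  have hspan : Ideal.span (Set.range rs.get) = Ideal.ofList rs := by
    rw [Ideal.ofList, Set.range_list_get]
  haveI : Module.Flat A (B ⧸ Ideal.ofList rs) := hflat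
  haveI : Module.Flat A (B ⧸ Ideal.span (Set.range rs.get)) := by rw [hspan]; infer_instance
  let e := ((CommRingCat.isPushout_tensorProduct A A' B).flip.isoIsPushout _ _ h).commRingCatIsoToRingEquiv
  have he : ∀ b : B, e ((1 : A') ⊗ₜ[A] b) = inl.hom b := fun b =>
    ConcreteCategory.congr_hom ((CommRingCat.isPushout_tensorProduct A A' B).flip.inl_isoIsPushout_hom _ _ h) b
  rcases hk with rfl | rfl
  · exact congr_cast (fun {n} g => CAlgX.IsH1Regular g) (List.length_map inl.hom).symm
      (fun i => (he _).trans (get_map inl.hom rs i))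
      (isH1Regular_of_ringEquiv e (isH1Regular_baseChange rs.get A A' hrs))
  · exact congr_cast (fun {n} g => CAlgX.IsQuasiRegular g) (List.length_map inl.hom).symm
      (fun i => (he _).trans (get_map inl.hom rs i))
      (CAlg48.QRBase.isQuasiRegular_of_ringEquiv e (CAlg48.QRBase.isQuasiRegular_baseChange rs.get A A' hrs))

/-- The four kinds along a flat map. -/
theorem seq_map_flat (k : RegImm.Kind) {R S : Type u} [CommRing R] [CommRing S] (φ : R →+* S) (hφ : φ.Flat)
    {rs : List R} (hrs : k.Seq R rs) (hne : Ideal.ofList (rs.map φ) ≠ ⊤) : k.Seq S (rs.map φ) := by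
  letI : Algebra R S := φ.toAlgebra
  haveI : Module.Flat R S := hφ
  cases k with
  | regular =>
    have hrs' : RingTheory.Sequence.IsRegular R rs := hrs
    refine ⟨hrs'.toIsWeaklyRegular.of_flat, fun htop => hne ?_⟩
    simpa using htop.symm
  | koszul => exact KReg44.isKoszulRegularSeq_map φ hφ hrs
  | h1 =>
    exact congr_cast (fun {n} g => CAlgX.IsH1Regular g) (List.length_map φ).symm
      (fun i => get_map φ rs i) (isH1Regular_of_flat hrs)
  | quasi =>
    exact congr_cast (fun {n} g => CAlgX.IsQuasiRegular g) (List.length_map φ).symm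
      (fun i => get_map φ rs i) (CAlg48.QRBase.isQuasiRegular_of_flat hrs)

end Groth.Agent.RegImm38
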