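import Groth.Agent.RegImm38.Seq
import Groth.Agent.RegImm44.Smooth
import Groth.Agent.KReg44.Smooth

/-!
# Regular immersions into smooth schemes
-/

set_option linter.style.haveILetI false

universe u

open AlgebraicGeometry CategoryTheory Limits RingTheory.Sequence

namespace Groth.Agent.RegImm38.Smooth

open Groth.Agent.RegImm44

section Ring

variable {R S : Type u} [CommRing R] [CommRing S]

/-- Regular sequences glue along a quotient. -/
theorem isWeaklyRegular_append (φ : R →+* S) (hφ : Function.Surjective φ) {l g : List R}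
    (hker : RingHom.ker φ = Ideal.ofList l) (hl : IsWeaklyRegular R l) (hg : IsWeaklyRegular S (g.map φ)) :
    IsWeaklyRegular R (l ++ g) := by
  refine (isWeaklyRegular_append_iff R l g).mpr ⟨hl, ?_⟩
  let e : (R ⧸ (Ideal.ofList l • ⊤ : Submodule R R)) ≃+ S :=
    (Submodule.quotEquivOfEq _ (RingHom.ker φ) (by simp [hker])).toAddEquiv.trans
      (RingHom.quotientKerEquivOfSurjective hφ).toAddEquiv
  refine (AddEquiv.isWeaklyRegular_congr (e := e) (as := g) (bs := g.map φ) ?_).mpr hg
  rw [List.forall₂_map_right_iff]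
  refine List.forall₂_same.mpr fun r _ x => ?_
  induction x using Submodule.Quotient.induction_on with
  | _ y => exact map_mul φ r y

variable {A : Type u} [CommRing A]

/-- `X_i - a_i` is a weakly regular sequence. -/
theorem isWeaklyRegular_X_sub_C : ∀ (n : ℕ) (a : Fin n → A),
    IsWeaklyRegular (MvPolynomial (Fin n) A) (List.ofFn fun i => MvPolynomial.X i - MvPolynomial.C (a i)) := by
  intro n
  induction n with
  | zero => intro a; simpa using IsWeaklyRegular.nil _ _
  | succ n ih =>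
    intro a
    let P := MvPolynomial (Fin n) A
    let c : P := MvPolynomial.C (a 0)
    let φ := Polynomial.evalRingHom c
    let g : List (Polynomial P) :=
      List.ofFn fun i : Fin n => Polynomial.C (MvPolynomial.X i - MvPolynomial.C (a i.succ))
    have hsurj : Function.Surjective φ := fun x => ⟨Polynomial.C x, Polynomial.eval_C⟩
    have hker : RingHom.ker φ = Ideal.ofList [Polynomial.X - Polynomial.C c] := by
      rw [Ideal.ofList_singleton]; exact Polynomial.ker_evalRingHom c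
    have h1 : IsWeaklyRegular (Polynomial P) [Polynomial.X - Polynomial.C c] := by
      rw [isWeaklyRegular_cons_iff]
      exact ⟨isSMulRegular_iff_right_eq_zero_of_smul.mpr fun x hx => (Polynomial.monic_X_sub_C c).mul_right_eq_zero_iff.1 hx,
        IsWeaklyRegular.nil _ _⟩
    have h2 := isWeaklyRegular_append φ hsurj hker h1 (g := g) (by
      rw [show g.map φ = List.ofFn fun i : Fin n => MvPolynomial.X i - MvPolynomial.C (a i.succ) from by
        rw [List.map_ofFn]; exact congrArg List.ofFn (funext fun i => Polynomial.eval_C)]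
      exact ih fun i => a i.succ)
    let e := MvPolynomial.finSuccEquiv A n
    letI : Algebra (Polynomial P) (MvPolynomial (Fin (n + 1)) A) := e.symm.toRingEquiv.toRingHom.toAlgebra
    haveI : Module.Flat (Polynomial P) (MvPolynomial (Fin (n + 1)) A) := RingHom.Flat.of_bijective e.symm.bijective
    have h4 := h2.of_flat (S := MvPolynomial (Fin (n + 1)) A)
    rw [List.map_append, List.map_cons, List.map_nil, List.singleton_append, List.map_ofFn] at h4
    suffices heq : (List.ofFn fun i : Fin (n + 1) => MvPolynomial.X i - MvPolynomial.C (a i)) = _ from heq ▸ h4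
    rw [List.ofFn_succ]
    congr 1
    · symm
      apply e.injective
      rw [show e (algebraMap (Polynomial P) (MvPolynomial (Fin (n + 1)) A) (Polynomial.X - Polynomial.C c)) = _ from
        e.apply_symm_apply _, map_sub, MvPolynomial.finSuccEquiv_X_zero]
      simp [e, c, MvPolynomial.finSuccEquiv_apply]
    · refine congrArg List.ofFn (funext fun i => ?_)
      symm
      apply e.injective
      rw [Function.comp_apply, show e (algebraMap (Polynomial P) (MvPolynomial (Fin (n + 1)) A) _) = _ from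
        e.apply_symm_apply _]
      simp only [e, map_sub, MvPolynomial.finSuccEquiv_X_succ]
      simp [MvPolynomial.finSuccEquiv_apply]

/-- The kernel along a standard smooth map is locally generated by a regular sequence. -/
theorem exists_away {C B : Type u} [CommRing C] [CommRing B] (φ : A →+* C) (hφ : φ.IsStandardSmooth)
    (γ : C →+* B) (hπ : Function.Surjective (γ.comp φ)) {rs : List A} (hrs : IsWeaklyRegular A rs)
    (hker : RingHom.ker (γ.comp φ) = Ideal.ofList rs) :
    ∃ t : C, 1 - t ∈ RingHom.ker γ ∧ ∃ L : List C, ∀ (T : Type u) [CommRing T] [Algebra C T]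
      [IsLocalization.Away t T], IsWeaklyRegular T (L.map (algebraMap C T)) ∧
        (RingHom.ker γ).map (algebraMap C T) = Ideal.ofList (L.map (algebraMap C T)) := by
  obtain ⟨n, g, hg, het⟩ := hφ.exists_etale_mvPolynomial
  choose a ha using fun k : Fin n => hπ (γ (g (MvPolynomial.X k)))
  let D := MvPolynomial (Fin n) A
  let σ : D →ₐ[A] A := MvPolynomial.aeval a
  have hcomp : (γ.comp φ).comp σ.toRingHom = γ.comp g := by
    refine MvPolynomial.ringHom_ext (fun r => ?_) (fun k => ?_)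
    · change γ (φ (σ (MvPolynomial.C r))) = γ (g (MvPolynomial.C r))
      rw [show σ (MvPolynomial.C r) = r from MvPolynomial.aeval_C a r, ← hg]; rfl
    · change γ (φ (σ (MvPolynomial.X k))) = γ (g (MvPolynomial.X k))
      rw [show σ (MvPolynomial.X k) = a k from MvPolynomial.aeval_X a k]
      exact ha k
  let y : List D := List.ofFn fun k => MvPolynomial.X k - MvPolynomial.C (a k)
  have hyk : RingHom.ker σ.toRingHom = Ideal.ofList y := by
    rw [← KReg44.span_range_eq_ofList]
    exact SmoothingLib.ker_aeval_eq_span a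
  have hsurj : Function.Surjective σ.toRingHom := fun r => ⟨MvPolynomial.C r, MvPolynomial.aeval_C a r⟩
  have hσC : (rs.map MvPolynomial.C).map σ.toRingHom = rs := by
    rw [List.map_map]
    conv_rhs => rw [← List.map_id rs]
    exact List.map_congr_left fun r _ => MvPolynomial.aeval_C a r
  let L₀ : List D := y ++ rs.map MvPolynomial.C
  have hL₀ : IsWeaklyRegular D L₀ :=
    isWeaklyRegular_append σ.toRingHom hsurj hyk (isWeaklyRegular_X_sub_C n a) (by rw [hσC]; exact hrs)
  letI := g.toAlgebra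
  haveI : Algebra.Etale D C := het
  have hJ : (RingHom.ker γ).comap (algebraMap D C) = Ideal.ofList L₀ := by
    have e1 : (RingHom.ker γ).comap (algebraMap D C) = (Ideal.ofList rs).comap σ.toRingHom := by
      rw [← hker, RingHom.comap_ker, RingHom.comap_ker, hcomp]
      rfl
    rw [e1, Ideal.ofList_append, ← hyk, RingHom.ker_eq_comap_bot, sup_comm,
      ← Ideal.comap_map_of_surjective _ hsurj, Ideal.map_ofList, hσC]
  obtain ⟨t, ht1, ht⟩ := KReg44.exists_one_sub_mem (D := D) (RingHom.ker γ) (fun c => by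
    obtain ⟨c, rfl⟩ := Ideal.Quotient.mk_surjective c
    obtain ⟨r, hr⟩ := hπ (γ c)
    refine ⟨MvPolynomial.C r, Ideal.Quotient.eq.2 ?_⟩
    change g (MvPolynomial.C r) - c ∈ RingHom.ker γ
    rw [RingHom.mem_ker, map_sub, sub_eq_zero, ← hr, ← hg]
    rfl)
  refine ⟨t, ht1, L₀.map (algebraMap D C), fun T _ _ _ => ?_⟩
  haveI : Module.Flat C T := IsLocalization.flat T (Submonoid.powers t)
  haveI : Module.Flat D C := inferInstance
  refine ⟨(hL₀.of_flat (S := C)).of_flat, ?_⟩
  rw [← KReg44.map_comap_eq_of_mem (D := D) (RingHom.ker γ) ht (algebraMap C T) (IsLocalization.Away.algebraMap_isUnit t),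
    hJ, Ideal.map_ofList, List.map_map]
  rfl

end Ring

variable {X V V' : Scheme.{u}}

/-- Compatible charts of a smooth comparison map. -/
theorem exists_chart_smooth (i : X ⟶ V) [IsImmersion i] (j : X ⟶ V') [IsImmersion j]
    (p : V' ⟶ V) [AlgebraicGeometry.Smooth p] (h : j ≫ p = i) (x : X) (T₀ : V.Opens) (hT₀ : i x ∈ T₀) :
    ∃ (U : V.Opens) (W : V'.Opens) (e : W ≤ p ⁻¹ᵁ U), U ≤ T₀ ∧ IsAffineOpen U ∧ IsAffineOpen W ∧ i x ∈ U ∧ j x ∈ W ∧
      IsClosedImmersion (i ∣_ U) ∧ IsClosedImmersion (j ∣_ W) ∧ i ⁻¹ᵁ U = j ⁻¹ᵁ W ∧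
      (p.appLE U W e).hom.IsStandardSmooth := by
  obtain ⟨U₀, -, hxU₀, hci⟩ := exists_chart i x
  obtain ⟨V₀, -, hxV₀, hcj⟩ := exists_chart j x
  haveI := hci
  haveI := hcj
  obtain ⟨U₁, hU₁, W₁, hW₁, hxW₁, e₁, hstd⟩ := AlgebraicGeometry.Smooth.exists_isStandardSmooth p (j x)
  obtain ⟨w, hwle, hxw⟩ := hW₁.exists_basicOpen_le (V := V₀) ⟨_, hxV₀⟩ hxW₁
  have hix : i x = p (j x) := by rw [← Scheme.Hom.comp_apply, h]
  have hxU₁ : i x ∈ U₁ := hix ▸ e₁ hxW₁
  obtain ⟨t, ht, htw⟩ := i.isEmbedding.isInducing.isOpen_iff.1 (j ⁻¹ᵁ V'.basicOpen w).2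
  let T : V.Opens := (⟨t, ht⟩ ⊓ U₀) ⊓ T₀
  have hxT : i x ∈ T := by
    refine ⟨⟨?_, hxU₀⟩, hT₀⟩
    change x ∈ i ⁻¹' t
    rw [htw]
    exact hxw
  obtain ⟨s, hsle, hxs⟩ := hU₁.exists_basicOpen_le (V := T) ⟨_, hxT⟩ hxU₁
  have e₂ : V'.basicOpen w ≤ p ⁻¹ᵁ U₁ := (V'.basicOpen_le w).trans e₁
  have hW₂ : IsAffineOpen (V'.basicOpen w) := hW₁.basicOpen w
  let W := V'.basicOpen ((p.appLE U₁ (V'.basicOpen w) e₂).hom s)
  have hW : W = V'.basicOpen w ⊓ p ⁻¹ᵁ V.basicOpen s := Scheme.basicOpen_appLE p _ _ e₂ s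
  have e : W ≤ p ⁻¹ᵁ V.basicOpen s := hW.trans_le inf_le_right
  refine ⟨V.basicOpen s, W, e, hsle.trans inf_le_right, hU₁.basicOpen s, hW₂.basicOpen _, hxs, ?_, ?_, ?_, ?_, ?_⟩
  · rw [hW]
    exact ⟨hxw, show p (j x) ∈ V.basicOpen s from hix ▸ hxs⟩
  · exact isClosedImmersion_restrict_of_le i (hsle.trans (inf_le_left.trans inf_le_right))
  · exact isClosedImmersion_restrict_of_le j ((hW.trans_le inf_le_left).trans hwle)
  · rw [hW, Scheme.Hom.preimage_inf, ← Scheme.Hom.comp_preimage, h, inf_eq_right.2]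
    intro z hz
    change z ∈ (j ⁻¹ᵁ V'.basicOpen w).carrier
    rw [← htw]
    exact (hsle hz).1.1
  · letI := hU₁.isLocalization_basicOpen s
    letI := hW₂.isLocalization_basicOpen ((p.appLE U₁ (V'.basicOpen w) e₂).hom s)
    have h1 : (p.appLE U₁ (V'.basicOpen w) e₂).hom.IsStandardSmooth := by
      rw [show p.appLE U₁ (V'.basicOpen w) e₂ = p.appLE U₁ W₁ e₁ ≫ V'.presheaf.map (homOfLE (V'.basicOpen_le w)).op
        from (Scheme.Hom.appLE_map p e₁ _).symm, CommRingCat.hom_comp]
      letI := hW₁.isLocalization_basicOpen w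
      exact RingHom.isStandardSmooth_stableUnderCompositionWithLocalizationAway.right _ w _ hstd
    have h2 := RingHom.isStandardSmooth_localizationPreserves.away
      (p.appLE U₁ (V'.basicOpen w) e₂).hom s Γ(V, V.basicOpen s) Γ(V', W) h1
    have h3 := congrArg CommRingCat.Hom.hom (hU₁.appLE_eq_away_map p hW₂ e₂ s)
    rw [CommRingCat.hom_ofHom] at h3
    rw [← h3] at h2
    exact h2

/-- A lift of a regular immersion to a smooth scheme is regular. -/
theorem isRegularImmersionAt_of_smooth (i : X ⟶ V) [IsImmersion i] (j : X ⟶ V') [IsImmersion j]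
    (p : V' ⟶ V) [AlgebraicGeometry.Smooth p] (h : j ≫ p = i) (x : X)
    (hx : RegImm.IsRegularImmersionAt .regular i x) : RegImm.IsRegularImmersionAt .regular j x := by
  obtain ⟨⟨U₀, hU₀⟩, hz₀, hci₀, rs₀, hrs₀, hker₀⟩ := hx
  obtain ⟨U, W, e, hle, hU, hW, hxU, hxW, hci, hcj, heq, hstd⟩ := exists_chart_smooth i j p h x U₀ hz₀
  haveI := hci
  haveI := hcj
  haveI := hci₀
  let ρ := (V.presheaf.map (homOfLE hle).op).hom
  have hρ : ρ.Flat := by
    have := (𝟙 V : V ⟶ V).flat_appLE hU₀ hU (show U ≤ (𝟙 V : V ⟶ V) ⁻¹ᵁ U₀ from hle)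
    rwa [show (𝟙 V : V ⟶ V).appLE U₀ U hle = V.presheaf.map (homOfLE hle).op from by
      simp [Scheme.Hom.appLE]; exact Category.id_comp _] at this
  letI : Algebra Γ(V, U₀) Γ(V, U) := ρ.toAlgebra
  haveI : Module.Flat Γ(V, U₀) Γ(V, U) := hρ
  have hker : RingHom.ker (i.app U).hom = Ideal.ofList (rs₀.map ρ) := by
    rw [RegImm44.ker_app_restrict i hU₀ hU hle, hker₀, Ideal.map_ofList]
  have hrs : IsWeaklyRegular Γ(V, U) (rs₀.map ρ) :=
    (show IsRegular Γ(V, U₀) rs₀ from hrs₀).toIsWeaklyRegular.of_flat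
  have hcomp : p.appLE U W e ≫ j.appLE W (i ⁻¹ᵁ U) heq.le = i.app U := by
    rw [Scheme.Hom.appLE_comp_appLE, Scheme.Hom.app_eq_appLE]
    subst h
    rfl
  have hc : (j.appLE W (i ⁻¹ᵁ U) heq.le).hom.comp (p.appLE U W e).hom = (i.app U).hom := by
    rw [← CommRingCat.hom_comp, hcomp]
  obtain ⟨t, ht, L, hL⟩ := exists_away _ hstd (j.appLE W (i ⁻¹ᵁ U) heq.le).hom
    (by rw [hc]; exact RegImm44.app_surjective i hU) hrs (by rw [hc]; exact hker)
  rw [ker_appLE_of_eq j heq] at ht hL
  letI := hW.isLocalization_basicOpen t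
  letI : Algebra Γ(V', W) Γ(V', V'.basicOpen t) := (V'.presheaf.map (homOfLE (V'.basicOpen_le t)).op).hom.toAlgebra
  obtain ⟨hreg, hI⟩ := hL Γ(V', V'.basicOpen t)
  have hxt : j x ∈ V'.basicOpen t := by
    rw [mem_basicOpen_iff hW ⟨j x, hxW⟩]
    intro htP
    exact (hW.primeIdealOf ⟨j x, hxW⟩).isPrime.ne_top ((Ideal.eq_top_iff_one _).2
      (by simpa using add_mem (ker_le_primeIdealOf j hW x hxW ht) htP))
  haveI := isClosedImmersion_restrict_of_le j (V'.basicOpen_le t)
  have hk : RingHom.ker (j.app (V'.basicOpen t)).hom =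
      Ideal.ofList (L.map (algebraMap Γ(V', W) Γ(V', V'.basicOpen t))) := by
    rw [← hI, ker_app_restrict j hW (hW.basicOpen t) (V'.basicOpen_le t)]
    rfl
  refine ⟨⟨V'.basicOpen t, hW.basicOpen t⟩, hxt, inferInstance, _, ⟨hreg, fun htop => ?_⟩, hk⟩
  have h1 := ker_le_primeIdealOf j (hW.basicOpen t) x hxt
  rw [hk] at h1
  exact ((hW.basicOpen t).primeIdealOf ⟨j x, hxt⟩).isPrime.ne_top
    (top_le_iff.mp ((by simpa using htop.le : (⊤ : Ideal Γ(V', V'.basicOpen t)) ≤ Ideal.ofList _).trans h1))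

end Groth.Agent.RegImm38.Smooth
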