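import Groth.Agent.Depth.Open
import Groth.Agent.LCI.Vasconcelos
import Groth.Agent.RegImm44.Affine

/-!
# Regular immersions from regular sequences in local rings
-/

set_option linter.style.haveILetI false

universe u

open AlgebraicGeometry CategoryTheory RingTheory.Sequence

namespace Groth.Agent.RegImm38

section Ring

variable {A : Type u} [CommRing A]

theorem isWeaklyRegular_iff_localizedModule (T : Submonoid A) (B : Type u) [CommRing B] [Algebra A B]
    [IsLocalization T B] (rs : List A) :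
    IsWeaklyRegular B (rs.map (algebraMap A B)) ↔
      IsWeaklyRegular (LocalizedModule T A) (rs.map (algebraMap A (Localization T))) := by
  rw [isWeaklyRegular_map_algebraMap_iff, isWeaklyRegular_map_algebraMap_iff]
  haveI : IsLocalizedModule T (Algebra.linearMap A B) :=
    (isLocalizedModule_iff_isLocalization' T B).mpr inferInstance
  exact (IsLocalizedModule.iso T (Algebra.linearMap A B)).symm.isWeaklyRegular_congr rs

variable [IsNoetherianRing A]

theorem exists_away_aux (p : Ideal A) [p.IsPrime] :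
    ∀ (rs : List A) (M : Type u) [AddCommGroup M] [Module A M] [Module.Finite A M],
      IsWeaklyRegular (LocalizedModule p.primeCompl M)
        (rs.map (algebraMap A (Localization.AtPrime p))) →
      ∃ f ∉ p, ∀ (T : Submonoid A), IsUnit (algebraMap A (Localization T) f) →
        IsWeaklyRegular (LocalizedModule T M) (rs.map (algebraMap A (Localization T))) := by
  intro rs
  induction rs with
  | nil => exact fun M _ _ _ _ => ⟨1, p.ne_top_iff_one.mp ‹p.IsPrime›.ne_top, fun T _ => by simp⟩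
  | cons x rs ih =>
    intro M _ _ _ h
    rw [Depth.isWeaklyRegular_localizedModule_cons_iff] at h
    obtain ⟨f, hfp, hf⟩ := Depth.exists_smul_eq_zero_of_isSMulRegular h.1
    obtain ⟨g, hgp, hg⟩ := ih _ h.2
    refine ⟨f * g, fun hmem => (‹p.IsPrime›.mem_or_mem hmem).elim hfp hgp, fun T hT => ?_⟩
    rw [map_mul, IsUnit.mul_iff] at hT
    rw [Depth.isWeaklyRegular_localizedModule_cons_iff]
    exact ⟨Depth.isSMulRegular_localizedModule_of_smul_eq_zero T hT.1 hf, hg T hT.2⟩

/-- A regular sequence generating the localisation of an ideal spreads out. -/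
theorem exists_away {p : Ideal A} [p.IsPrime] (S : Type u) [CommRing S] [Algebra A S]
    [IsLocalization.AtPrime S p] (I : Ideal A) {ts : List S} (hts : IsWeaklyRegular S ts)
    (hI : I.map (algebraMap A S) = Ideal.ofList ts) :
    ∃ f ∉ p, ∃ rs : List A, ∀ (B : Type u) [CommRing B] [Algebra A B] [IsLocalization.Away f B],
      IsWeaklyRegular B (rs.map (algebraMap A B)) ∧
        I.map (algebraMap A B) = Ideal.ofList (rs.map (algebraMap A B)) := by
  classical
  have hex : ∀ t : {t // t ∈ ts}, ∃ a : A, a ∈ I ∧ ∃ v : S, IsUnit v ∧ algebraMap A S a = v * t.1 := by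
    rintro ⟨t, ht⟩
    have htI : t ∈ I.map (algebraMap A S) := hI ▸ Ideal.subset_span ht
    obtain ⟨⟨⟨a, ha⟩, s⟩, hs⟩ := (IsLocalization.mem_map_algebraMap_iff p.primeCompl S).mp htI
    exact ⟨a, ha, algebraMap A S s, IsLocalization.map_units S s, by rw [mul_comm]; exact hs.symm⟩
  choose a haI v hv hav using hex
  set rs : List A := ts.attach.map a
  have hrs : IsWeaklyRegular S (rs.map (algebraMap A S)) := by
    refine LCI.Vasconcelos.isWeaklyRegular_of_unit_mul ts _ S ?_ hts
    have e : ts = ts.attach.map Subtype.val := ts.attach_map_subtype_val.symm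
    conv_lhs => rw [e]
    simp only [rs, List.map_map, List.forall₂_map_left_iff, List.forall₂_map_right_iff]
    exact List.forall₂_same.mpr fun t _ => ⟨v t, hv t, hav t⟩
  obtain ⟨f, hfp, hf⟩ := exists_away_aux p rs A
    ((isWeaklyRegular_iff_localizedModule p.primeCompl S rs).mp hrs)
  have hJI : Ideal.ofList rs ≤ I := Ideal.span_le.mpr fun r hr => by
    obtain ⟨t, -, rfl⟩ := List.mem_map.mp hr
    exact haI t
  have hloc : ∀ x ∈ I, ∃ s, s ∉ p ∧ s * x ∈ Ideal.ofList rs := by
    intro x hx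
    have : algebraMap A S x ∈ (Ideal.ofList rs).map (algebraMap A S) := by
      have h1 : algebraMap A S x ∈ Ideal.ofList ts := hI ▸ Ideal.mem_map_of_mem _ hx
      refine Ideal.span_le.mpr (fun t ht => ?_) h1
      rw [SetLike.mem_coe, ← Ideal.unit_mul_mem_iff_mem _ (hv ⟨t, ht⟩), ← hav ⟨t, ht⟩]
      exact Ideal.mem_map_of_mem _ (Ideal.subset_span (List.mem_map.mpr ⟨⟨t, ht⟩, List.mem_attach _ _, rfl⟩))
    obtain ⟨s, hs, h⟩ := (IsLocalization.algebraMap_mem_map_algebraMap_iff p.primeCompl S _ x).mp this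
    exact ⟨s, hs, h⟩
  obtain ⟨T, hT⟩ := IsNoetherian.noetherian I
  choose! s hs hsm using hloc
  have hTI : ∀ x ∈ T, x ∈ I := fun x hx => hT ▸ Submodule.subset_span hx
  refine ⟨f * ∏ x ∈ T, s x, fun hmem => (‹p.IsPrime›.mem_or_mem hmem).elim hfp fun h => ?_, rs,
    fun B _ _ _ => ?_⟩
  · obtain ⟨x, hx, hxp⟩ := (Ideal.IsPrime.prod_mem_iff (p := p)).mp h
    exact hs x (hTI x hx) hxp
  have hu := IsLocalization.Away.algebraMap_isUnit (S := B) (f * ∏ x ∈ T, s x)
  rw [map_mul, IsUnit.mul_iff, map_prod, IsUnit.prod_iff] at hu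
  refine ⟨?_, le_antisymm ?_ (by rw [← Ideal.map_ofList]; exact Ideal.map_mono hJI)⟩
  · rw [isWeaklyRegular_iff_localizedModule (Submonoid.powers (f * ∏ x ∈ T, s x)) B]
    refine hf _ ?_
    have h := IsLocalization.Away.algebraMap_isUnit (S := Localization.Away (f * ∏ x ∈ T, s x))
      (f * ∏ x ∈ T, s x)
    rw [map_mul, IsUnit.mul_iff] at h
    exact h.1
  · rw [← Ideal.map_ofList, Ideal.map_le_iff_le_comap, ← hT]
    refine Submodule.span_le.mpr fun x hx => ?_
    change algebraMap A B x ∈ Ideal.map (algebraMap A B) (Ideal.ofList rs)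
    rw [← Ideal.unit_mul_mem_iff_mem _ (hu.2 x hx), ← map_mul]
    exact Ideal.mem_map_of_mem _ (hsm x (hTI x hx))

end Ring

variable {X Z : Scheme.{u}} (i : Z ⟶ X)

theorem ker_stalkMap_eq_map {U : X.Opens} (hU : IsAffineOpen U) [IsClosedImmersion (i ∣_ U)] (z : Z)
    (hz : i z ∈ U) :
    RingHom.ker (i.stalkMap z).hom =
      (RingHom.ker (i.app U).hom).map (X.presheaf.germ U (i z) hz).hom := by
  have hV : IsAffineOpen (i ⁻¹ᵁ U) := RegImm44.isAffineOpen_preimage i hU
  letI : Algebra Γ(X, U) (X.presheaf.stalk (i z)) := (X.presheaf.germ U (i z) hz).hom.toAlgebra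
  letI : Algebra Γ(Z, i ⁻¹ᵁ U) (Z.presheaf.stalk z) := (Z.presheaf.germ (i ⁻¹ᵁ U) z hz).hom.toAlgebra
  haveI := hU.isLocalization_stalk ⟨i z, hz⟩
  haveI := hV.isLocalization_stalk ⟨z, hz⟩
  have hcomap : (hV.primeIdealOf ⟨z, hz⟩).asIdeal.comap (i.app U).hom = (hU.primeIdealOf ⟨i z, hz⟩).asIdeal := by
    have h1 := IsAffineOpen.comap_primeIdealOf_appLE U hU (i ⁻¹ᵁ U) hV (le_refl _) (f := i) (x := z) hz
    rw [← Scheme.Hom.app_eq_appLE] at h1
    exact congrArg PrimeSpectrum.asIdeal h1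
  let P := (hU.primeIdealOf ⟨i z, hz⟩).asIdeal
  let Q := (hV.primeIdealOf ⟨z, hz⟩).asIdeal
  let S := X.presheaf.stalk (i z)
  let T := Z.presheaf.stalk z
  have hg : ∀ a : Γ(X, U), (i.stalkMap z).hom (algebraMap Γ(X, U) S a) =
      algebraMap Γ(Z, i ⁻¹ᵁ U) T ((i.app U).hom a) := fun a =>
    Scheme.Hom.germ_stalkMap_apply i U z hz a
  refine le_antisymm (fun x hx => ?_) (Ideal.map_le_iff_le_comap.2 fun a ha => ?_)
  · obtain ⟨⟨a, s⟩, rfl⟩ := IsLocalization.mk'_surjective P.primeCompl x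
    have h1 : algebraMap Γ(Z, i ⁻¹ᵁ U) T ((i.app U).hom a) = 0 := by
      rw [← hg, ← IsLocalization.mk'_spec S a s, map_mul, show (i.stalkMap z).hom _ = 0 from hx,
        zero_mul]
    obtain ⟨t, ht⟩ := (IsLocalization.map_eq_zero_iff Q.primeCompl T _).1 h1
    obtain ⟨t', ht'⟩ := RegImm44.app_surjective i hU (t : Γ(Z, i ⁻¹ᵁ U))
    have ht'P : t' ∈ P.primeCompl := fun htp => t.2 (by
      have h2 : t' ∈ Q.comap (i.app U).hom := hcomap.symm ▸ htp
      rwa [Ideal.mem_comap, ht'] at h2)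
    exact (IsLocalization.mk'_mem_map_algebraMap_iff P.primeCompl _ _ _ _).2
      ⟨t', ht'P, by rw [RingHom.mem_ker, map_mul, ht', ht]⟩
  · have h0 : (i.stalkMap z).hom (algebraMap Γ(X, U) S a) = 0 := by
      rw [hg, show (i.app U).hom a = 0 from ha, map_zero]
    exact h0

/-- Noetherian case: regularity at a point is seen in the local ring. -/
theorem isRegularImmersionAt_of_stalk [IsImmersion i] [IsLocallyNoetherian X] (z : Z)
    {ts : List (X.presheaf.stalk (i z))} (hts : IsWeaklyRegular (X.presheaf.stalk (i z)) ts)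
    (hker : RingHom.ker (i.stalkMap z).hom = Ideal.ofList ts) :
    RegImm.IsRegularImmersionAt .regular i z := by
  obtain ⟨U, hU, hz, hci⟩ := RegImm44.exists_chart i z
  haveI := hci
  haveI : IsNoetherianRing Γ(X, U) := IsLocallyNoetherian.component_noetherian ⟨U, hU⟩
  letI : Algebra Γ(X, U) (X.presheaf.stalk (i z)) := (X.presheaf.germ U (i z) hz).hom.toAlgebra
  haveI := hU.isLocalization_stalk ⟨i z, hz⟩
  obtain ⟨f, hf, rs, h⟩ := exists_away (X.presheaf.stalk (i z)) (RingHom.ker (i.app U).hom)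
    (p := (hU.primeIdealOf ⟨i z, hz⟩).asIdeal) hts (by rw [← hker, ker_stalkMap_eq_map i hU z hz]; rfl)
  haveI := hU.isLocalization_basicOpen f
  letI : Algebra Γ(X, U) Γ(X, X.basicOpen f) := (X.presheaf.map (homOfLE (X.basicOpen_le f)).op).hom.toAlgebra
  obtain ⟨hreg, hI⟩ := h Γ(X, X.basicOpen f)
  haveI := RegImm44.isClosedImmersion_restrict_of_le i (X.basicOpen_le f)
  have hzf : i z ∈ X.basicOpen f := (RegImm44.mem_basicOpen_iff hU ⟨i z, hz⟩ f).2 hf
  have hkf : RingHom.ker (i.app (X.basicOpen f)).hom =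
      Ideal.ofList (rs.map (algebraMap Γ(X, U) Γ(X, X.basicOpen f))) := by
    rw [← hI, RegImm44.ker_app_restrict i hU (hU.basicOpen f) (X.basicOpen_le f)]
    rfl
  refine ⟨⟨X.basicOpen f, hU.basicOpen f⟩, hzf, inferInstance, _, ⟨hreg, fun htop => ?_⟩, hkf⟩
  have h1 := RegImm44.ker_le_primeIdealOf i (hU.basicOpen f) z hzf
  rw [hkf] at h1
  rw [Ideal.smul_top_eq_map] at htop
  exact ((hU.basicOpen f).primeIdealOf ⟨i z, hzf⟩).isPrime.ne_top
    (top_le_iff.mp ((by simpa using htop.le : (⊤ : Ideal Γ(X, X.basicOpen f)) ≤ Ideal.ofList _).trans h1))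

end Groth.Agent.RegImm38
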